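import Mathlib
import Groth.Prelude.Def_CAlgX

/-!
# Maximal minors of an `(t+1) × t` matrix
-/

set_option autoImplicit false
set_option backward.isDefEq.respectTransparency false
universe u

open Matrix

namespace Groth.Agent.H80.HB.Basic

variable {R : Type u} [CommRing R] {t : ℕ} (Ψ : Matrix (Fin (t + 1)) (Fin t) R)

/-- The signed maximal minors. -/
noncomputable def δ (i : Fin (t + 1)) : R := (-1 : R) ^ (i : ℕ) * (Ψ.submatrix i.succAbove id).det

/-- The ideal of the maximal minors, as a span of the signed minors. -/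
noncomputable def J : Ideal R := Ideal.span (Set.range (δ Ψ))

lemma neg_one_pow_mul_self (i : ℕ) : (-1 : R) ^ i * (-1 : R) ^ i = 1 := by
  rw [← mul_pow]; simp

lemma D_eq (i : Fin (t + 1)) :
    (Ψ.submatrix i.succAbove id).det = (-1 : R) ^ (i : ℕ) * δ Ψ i := by
  rw [δ, ← mul_assoc, neg_one_pow_mul_self, one_mul]

lemma sum_δ (c : Fin t) : ∑ i, δ Ψ i * Ψ i c = 0 := by
  let M : Matrix (Fin (t + 1)) (Fin (t + 1)) R := Matrix.of fun i => Fin.cons (Ψ i c) (Ψ i)
  have h0 : M.det = 0 := Matrix.det_zero_of_column_eq (i := 0) (j := c.succ) (Fin.succ_ne_zero c).symm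
    (fun k => by simp [M])
  rw [Matrix.det_succ_column_zero] at h0
  refine Eq.trans (Finset.sum_congr rfl fun i _ => ?_) h0
  have : M.submatrix i.succAbove Fin.succ = Ψ.submatrix i.succAbove id := by
    ext a b; simp [M]
  rw [this, δ, show M i 0 = Ψ i c by simp [M]]
  ring

lemma sum_δ_mulVec (w : Fin t → R) : ∑ i, δ Ψ i * (Ψ *ᵥ w) i = 0 := by
  simp only [Matrix.mulVec, dotProduct, Finset.mul_sum]
  rw [Finset.sum_comm]
  simp only [← mul_assoc, ← Finset.sum_mul, sum_δ, zero_mul, Finset.sum_const_zero]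

lemma δ_mem (i : Fin (t + 1)) : δ Ψ i ∈ J Ψ := Ideal.subset_span ⟨i, rfl⟩

lemma D_mem (i : Fin (t + 1)) : (Ψ.submatrix i.succAbove id).det ∈ J Ψ := by
  rw [D_eq]; exact Ideal.mul_mem_left _ _ (δ_mem Ψ i)

lemma minor_mem (f : Fin t → Fin (t + 1)) (g : Fin t → Fin t) :
    (Ψ.submatrix f g).det ∈ J Ψ := by
  classical
  by_cases hf : Function.Injective f
  · by_cases hg : Function.Injective g
    · obtain ⟨i, hi⟩ : ∃ i, ∀ a, f a ≠ i := by
        by_contra hc
        push Not at hc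
        have := Fintype.card_le_of_surjective f hc
        simp at this
      have hex : ∀ a, ∃ b, i.succAbove b = f a := fun a => Fin.exists_succAbove_eq (hi a)
      choose σ hσ using hex
      have hσi : Function.Injective σ := fun a b h => hf (by rw [← hσ, ← hσ, h])
      let σ' : Equiv.Perm (Fin t) := Equiv.ofBijective σ hσi.bijective_of_finite
      let τ : Equiv.Perm (Fin t) := Equiv.ofBijective g hg.bijective_of_finite
      have : Ψ.submatrix f g = ((Ψ.submatrix i.succAbove id).submatrix σ' id).submatrix id τ := by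
        ext a b; simp [σ', τ, hσ]
      rw [this, Matrix.det_permute', Matrix.det_permute]
      exact Ideal.mul_mem_left _ _ (Ideal.mul_mem_left _ _ (D_mem Ψ i))
    · obtain ⟨a, b, hab, hne⟩ := Function.not_injective_iff.mp hg
      rw [Matrix.det_zero_of_column_eq hne (fun k => by simp [hab])]
      exact zero_mem _
  · obtain ⟨a, b, hab, hne⟩ := Function.not_injective_iff.mp hf
    rw [Matrix.det_zero_of_row_eq hne (by ext k; simp [hab])]
    exact zero_mem _

theorem minorIdeal_eq : CAlgX.minorIdeal Ψ t = J Ψ := by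
  apply le_antisymm
  · rw [CAlgX.minorIdeal, Ideal.span_le]
    rintro _ ⟨⟨f, g⟩, rfl⟩
    exact minor_mem Ψ f g
  · rw [J, Ideal.span_le]
    rintro _ ⟨i, rfl⟩
    exact Ideal.mul_mem_left _ _ (Ideal.subset_span ⟨(i.succAbove, id), rfl⟩)

/-- The Cramer vector. -/
noncomputable def cramerVec (j : Fin (t + 1)) (v : Fin (t + 1) → R) : Fin t → R :=
  (Ψ.submatrix j.succAbove id).adjugate *ᵥ (v ∘ j.succAbove)

lemma mulVec_cramerVec (j : Fin (t + 1)) (v : Fin (t + 1) → R) (k : Fin t) :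
    (Ψ *ᵥ cramerVec Ψ j v) (j.succAbove k) =
      (Ψ.submatrix j.succAbove id).det * v (j.succAbove k) := by
  show ((Ψ.submatrix j.succAbove id) *ᵥ cramerVec Ψ j v) k = _
  rw [cramerVec, Matrix.mulVec_mulVec, Matrix.mul_adjugate, Matrix.smul_mulVec, Matrix.one_mulVec]
  rfl

lemma sq_smul_mem_range (j : Fin (t + 1)) (v : Fin (t + 1) → R) (hv : ∑ i, δ Ψ i * v i = 0) :
    δ Ψ j ^ 2 • v ∈ LinearMap.range Ψ.mulVecLin := by
  set D := (Ψ.submatrix j.succAbove id).det
  set z : Fin (t + 1) → R := Ψ *ᵥ cramerVec Ψ j v - D • v with hz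
  have hzk : ∀ k, z (j.succAbove k) = 0 := fun k => by
    simp [hz, mulVec_cramerVec, D]
  have h0 : δ Ψ j * z j = 0 := by
    have : ∑ i, δ Ψ i * z i = 0 := by
      simp only [hz, Pi.sub_apply, Pi.smul_apply, smul_eq_mul, mul_sub, Finset.sum_sub_distrib,
        sum_δ_mulVec, zero_sub, neg_eq_zero]
      simp only [mul_left_comm (δ Ψ _) D, ← Finset.mul_sum, hv, mul_zero]
    rw [Fin.sum_univ_succAbove _ j] at this
    simpa [hzk] using this
  have hz0 : δ Ψ j • z = 0 := by
    funext i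
    rcases Fin.eq_self_or_eq_succAbove j i with rfl | ⟨k, rfl⟩
    · simpa using h0
    · simp [hzk]
  refine ⟨((-1 : R) ^ (j : ℕ) * δ Ψ j) • cramerVec Ψ j v, ?_⟩
  rw [Matrix.mulVecLin_apply, Matrix.mulVec_smul]
  have h1 : δ Ψ j • (Ψ *ᵥ cramerVec Ψ j v) = δ Ψ j • (D • v) := by
    rw [← sub_eq_zero, ← smul_sub]
    exact hz0
  rw [mul_smul, h1, ← mul_smul, ← mul_smul]
  congr 1
  rw [show D = (-1 : R) ^ (j : ℕ) * δ Ψ j from D_eq Ψ j]
  calc (-1 : R) ^ (j : ℕ) * δ Ψ j * ((-1) ^ (j : ℕ) * δ Ψ j)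
      = ((-1 : R) ^ (j : ℕ) * (-1 : R) ^ (j : ℕ)) * (δ Ψ j * δ Ψ j) := by ring
    _ = δ Ψ j ^ 2 := by rw [neg_one_pow_mul_self, one_mul, pow_two]

lemma δ_smul_eq_zero (j : Fin (t + 1)) (w : Fin t → R) (hw : Ψ *ᵥ w = 0) : δ Ψ j • w = 0 := by
  have h : (Ψ.submatrix j.succAbove id) *ᵥ w = 0 := funext fun k => congrFun hw (j.succAbove k)
  have := congrArg ((Ψ.submatrix j.succAbove id).adjugate *ᵥ ·) h
  simp only [Matrix.mulVec_mulVec, Matrix.adjugate_mul, Matrix.smul_mulVec, Matrix.one_mulVec,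
    Matrix.mulVec_zero] at this
  rw [δ, mul_smul, this, smul_zero]

lemma D_mul_eq (p : Fin (t + 1) → R) (hp : ∀ c, ∑ i, p i * Ψ i c = 0) (j : Fin (t + 1))
    (k : Fin t) :
    p (j.succAbove k) * (Ψ.submatrix j.succAbove id).det =
      -(p j) * (Ψ j ᵥ* (Ψ.submatrix j.succAbove id).adjugate) k := by
  set M := Ψ.submatrix j.succAbove id
  have h : (p ∘ j.succAbove) ᵥ* M = -(p j) • Ψ j := by
    funext c
    have := hp c
    rw [Fin.sum_univ_succAbove _ j] at this
    simp only [Matrix.vecMul, dotProduct, M, Matrix.submatrix_apply, id, Function.comp_apply,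
      Pi.smul_apply, smul_eq_mul]
    linear_combination this
  have h2 := congrArg (· ᵥ* M.adjugate) h
  simp only [Matrix.vecMul_vecMul, Matrix.mul_adjugate, Matrix.smul_vecMul] at h2
  have h3 := congrFun h2 k
  rw [Matrix.vecMul_smul, Matrix.vecMul_one] at h3
  simp only [Pi.smul_apply, smul_eq_mul, Function.comp_apply] at h3
  linear_combination h3

lemma sq_mul_eq (p : Fin (t + 1) → R) (hp : ∀ c, ∑ i, p i * Ψ i c = 0) (i j : Fin (t + 1)) :
    δ Ψ j * (p i * δ Ψ j - p j * δ Ψ i) = 0 := by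
  rcases Fin.eq_self_or_eq_succAbove j i with rfl | ⟨k, rfl⟩
  · simp
  · have h1 := D_mul_eq Ψ p hp j k
    have h2 := D_mul_eq Ψ (δ Ψ) (sum_δ Ψ) j k
    rw [D_eq] at h1 h2
    have h3 := neg_one_pow_mul_self (R := R) (j : ℕ)
    linear_combination ((-1 : R) ^ (j : ℕ) * δ Ψ j) * h1 - ((-1 : R) ^ (j : ℕ) * p j) * h2 -
      (p (j.succAbove k) * δ Ψ j * δ Ψ j - p j * δ Ψ (j.succAbove k) * δ Ψ j) * h3

lemma pow_three_mul_eq (p : Fin (t + 1) → R) (hp : ∀ c, ∑ i, p i * Ψ i c = 0)
    (i j l : Fin (t + 1)) : δ Ψ l ^ 2 * (p i * δ Ψ j - p j * δ Ψ i) = 0 := by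
  linear_combination (δ Ψ j) * sq_mul_eq Ψ p hp i l - (δ Ψ i) * sq_mul_eq Ψ p hp j l

/-- If all maximal minors lie in the prime `P`, then `Ψ` has a kernel vector modulo `P`. -/
lemma deficient (P : Ideal R) [P.IsPrime] (hJ : J Ψ ≤ P) :
    ∃ (w : Fin t → R) (c : Fin t), w c ∉ P ∧ ∀ i, (Ψ *ᵥ w) i ∈ P := by
  classical
  let K := FractionRing (R ⧸ P)
  let φ : R →+* K := (algebraMap (R ⧸ P) K).comp (Ideal.Quotient.mk P)
  have hφ : ∀ x, φ x = 0 ↔ x ∈ P := fun x => by
    simp [φ, Ideal.Quotient.eq_zero_iff_mem]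
  let A := Ψ.map φ
  have hnot : ¬ Function.Injective A.mulVecLin := by
    intro hinj
    have hr : A.rank = t := by
      rw [Matrix.rank, LinearMap.finrank_range_of_inj hinj]
      simp
    rw [Matrix.rank_eq_finrank_span_row] at hr
    have htop : Submodule.span K (Set.range A.row) = ⊤ :=
      Submodule.eq_top_of_finrank_eq (by rw [hr]; simp)
    obtain ⟨b, hb, hspan, hli⟩ := exists_linearIndependent K (Set.range A.row)
    let B := Module.Basis.mk hli (by rw [Subtype.range_coe, hspan, htop])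
    have : Fintype b := Set.Finite.fintype ((Set.finite_range A.row).subset hb)
    have hcard : Fintype.card b = t := by
      rw [← Module.finrank_eq_card_basis B]; simp
    let e : Fin t ≃ b := (Fintype.equivFinOfCardEq hcard).symm
    choose f hf using fun a : Fin t => hb (e a).2
    have hli' : LinearIndependent K (A.submatrix f id).row := by
      have : (A.submatrix f id).row = (fun a : b => (a : Fin t → K)) ∘ e := by
        funext a; exact hf a
      rw [this]
      exact hli.comp e e.injective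
    rw [Matrix.linearIndependent_rows_iff_isUnit, Matrix.isUnit_iff_isUnit_det,
      Matrix.submatrix_map, ← RingHom.mapMatrix_apply, ← RingHom.map_det] at hli'
    exact hli'.ne_zero ((hφ _).mpr (hJ (minor_mem Ψ f id)))
  rw [← LinearMap.ker_eq_bot, Submodule.eq_bot_iff] at hnot
  push Not at hnot
  obtain ⟨v, hv, hv0⟩ := hnot
  obtain ⟨⟨s, hs⟩, hsv⟩ :=
    IsLocalization.exist_integer_multiples_of_finite (nonZeroDivisors (R ⧸ P)) v
  choose a ha using hsv
  choose w hw using fun c => Ideal.Quotient.mk_surjective (a c)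
  have hwv : (fun c => φ (w c)) = algebraMap (R ⧸ P) K s • v := funext fun c => by
    simp only [φ, RingHom.comp_apply, hw, Pi.smul_apply, smul_eq_mul]
    rw [ha, Algebra.smul_def]
  have hs0 : algebraMap (R ⧸ P) K s ≠ 0 := IsFractionRing.to_map_ne_zero_of_mem_nonZeroDivisors hs
  obtain ⟨c, hc⟩ := Function.ne_iff.mp hv0
  refine ⟨w, c, fun h => hc ?_, fun i => (hφ _).mp ?_⟩
  · have := congrFun hwv c
    rw [(hφ _).mpr h, Pi.smul_apply, smul_eq_mul] at this
    exact (mul_eq_zero.mp this.symm).resolve_left hs0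
  · rw [RingHom.map_mulVec]
    show (A *ᵥ fun c => φ (w c)) i = 0
    rw [hwv, Matrix.mulVec_smul]
    have : A *ᵥ v = 0 := hv
    simp [this]

end Groth.Agent.H80.HB.Basic
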